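import Cfsg.Agent.H766.HT.DPVal

/-!
# The `p`-part of the degrees of the dual polar characters of `PSU_n(q)`, `p ∣ q + 1`, `p < n < 2 p` (helper766)

`Q = q ^ 2`, `s = q ^ (2 f + 1)`, `n = 2 m + f`, `f ≤ 1`: `exists_j_psu` gives `j ≤ m` with `v_p (ff Q s m j) = 1`.
-/

set_option autoImplicit false

namespace Cfsg.Agent.H766.HT

open Finset Cfsg.Agent.H722.DPol

section

variable {p : ℕ} [hp : Fact p.Prime] {q : ℕ}

theorem not_dvd_of_dvd_succ (hpq : p ∣ q + 1) : ¬ p ∣ q := fun h =>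
  hp.out.one_lt.ne' (Nat.dvd_one.1 ((Nat.dvd_add_right h).1 hpq))

theorem val_sub2 (h2 : p ≠ 2) (hq : 2 ≤ q) (hpq : p ∣ q + 1) {t : ℕ} (ht : 0 < t) (htp : t < p) :
    padicValRat p (((q : ℚ) ^ 2) ^ t - 1) = (padicValNat p (q + 1) : ℤ) := by
  have hq' := not_dvd_of_dvd_succ hpq
  have h6 : (((q : ℚ) ^ 2) ^ t - 1) = (((q ^ 2) ^ t - 1 ^ t : ℕ) : ℚ) := by
    rw [one_pow, Nat.cast_sub (Nat.one_le_pow _ _ (by positivity))]; push_cast; ring
  have h1 : q ^ 2 - 1 = (q - 1) * (q + 1) := by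
    obtain ⟨k, rfl⟩ : ∃ k, q = k + 1 := ⟨q - 1, by omega⟩
    rw [Nat.add_sub_cancel, show (k + 1) ^ 2 = k * (k + 1 + 1) + 1 by ring, Nat.add_sub_cancel]
  have h3 : p ∣ q ^ 2 - 1 := h1 ▸ Dvd.dvd.mul_left hpq _
  have h4 : 1 < q ^ 2 := Nat.one_lt_pow (by norm_num) (by omega)
  have h5 : ¬ p ∣ q - 1 := by
    intro h
    have h7 : p ∣ (q + 1) - (q - 1) := Nat.dvd_sub hpq h
    rw [show q + 1 - (q - 1) = 2 by omega] at h7
    exact h2 ((Nat.prime_dvd_prime_iff_eq hp.out Nat.prime_two).1 h7)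
  rw [h6, padicValRat.of_nat, padicValNat.pow_sub_pow (hp.out.odd_of_ne_two h2) h4 h3
    (fun h => hq' (hp.out.dvd_of_dvd_pow h)) ht.ne', h1, padicValNat.mul (by omega) (by omega),
    padicValNat.eq_zero_of_not_dvd h5, padicValNat.eq_zero_of_not_dvd (Nat.not_dvd_of_pos_of_lt ht htp)]
  push_cast
  ring

theorem val_add2' (hpq : p ∣ q + 1) (hq : 2 ≤ q) (h2 : p ≠ 2) (x : ℕ) {t : ℕ} (ht : Odd t) (ht3 : t < 3 * p) :
    padicValRat p ((q : ℚ) ^ x + (q : ℚ) ^ (x + t)) = (padicValNat p (q + 1) : ℤ) + (if t = p then 1 else 0) := by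
  have hq' := not_dvd_of_dvd_succ hpq
  have hq0 : (0 : ℚ) < q := by exact_mod_cast (by omega : 0 < q)
  have h1 : (q : ℚ) ^ x + (q : ℚ) ^ (x + t) = ((q ^ x : ℕ) : ℚ) * ((q ^ t + 1 ^ t : ℕ) : ℚ) := by
    push_cast
    rw [one_pow, pow_add]
    ring
  have a1 : ((q ^ x : ℕ) : ℚ) ≠ 0 := by push_cast; positivity
  have a2 : ((q ^ t + 1 ^ t : ℕ) : ℚ) ≠ 0 := by push_cast; positivity
  have h5 : padicValNat p t = if t = p then 1 else 0 := by
    split_ifs with hnp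
    · rw [hnp]; exact padicValNat_self
    · refine padicValNat.eq_zero_of_not_dvd fun h => ?_
      obtain ⟨k, rfl⟩ := h
      have hk3 : k < 3 := by
        by_contra hc
        have : p * 3 ≤ p * k := Nat.mul_le_mul_left _ (by omega)
        omega
      have hk : Odd k := (Nat.odd_mul.1 ht).2
      have : k = 1 := by
        obtain ⟨l, rfl⟩ := hk
        omega
      subst this
      exact hnp (mul_one p)
  rw [h1, padicValRat.mul a1 a2, padicValRat.of_nat, padicValRat.of_nat,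
    padicValNat.eq_zero_of_not_dvd (fun h => hq' (hp.out.dvd_of_dvd_pow h)),
    padicValNat.pow_add_pow (hp.out.odd_of_ne_two h2) hpq hq' ht, h5]
  push_cast
  ring

theorem val_add2 (hpq : p ∣ q + 1) (hq : 2 ≤ q) (h2 : p ≠ 2) (x y : ℕ) (ht : Odd (x + y)) (ht3 : x < y + 3 * p)
    (ht4 : y < x + 3 * p) :
    padicValRat p ((q : ℚ) ^ x + (q : ℚ) ^ y) = (padicValNat p (q + 1) : ℤ) +
      (if x = y + p ∨ y = x + p then 1 else 0) := by
  rcases le_total x y with hxy | hxy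
  · obtain ⟨t, rfl⟩ := Nat.exists_eq_add_of_le hxy
    have h1 : Odd t := by
      rcases Nat.even_or_odd t with h | h
      · exfalso
        have : Even (x + (x + t)) := by
          rw [← add_assoc]
          exact (Even.add_self x).add h
        exact (Nat.not_even_iff_odd.2 ht) this
      · exact h
    rw [val_add2' hpq hq h2 x h1 (by omega)]
    have h3 : (x = x + t + p ∨ x + t = x + p) ↔ t = p := by
      have := hp.out.pos
      omega
    simp only [h3]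
  · obtain ⟨t, rfl⟩ := Nat.exists_eq_add_of_le hxy
    have h1 : Odd t := by
      rcases Nat.even_or_odd t with h | h
      · exfalso
        have : Even (y + t + y) := by
          rw [show y + t + y = (y + y) + t by ring]
          exact (Even.add_self y).add h
        exact (Nat.not_even_iff_odd.2 ht) this
      · exact h
    rw [add_comm, val_add2' hpq hq h2 y h1 (by omega)]
    have h3 : (y + t = y + p ∨ y = y + t + p) ↔ t = p := by
      have := hp.out.pos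
      omega
    simp only [h3]

/-- The valuation of the degree. -/
theorem val_ff_psu (h2 : p ≠ 2) (hq : 2 ≤ q) (hpq : p ∣ q + 1) {h m f j : ℕ} (hh : p = 2 * h + 1) (hf : f ≤ 1)
    (hm1 : h < m + f) (hm : m < p) (hj : j ≤ m) :
    padicValRat p (ff ((q ^ 2 : ℕ) : ℚ) ((q ^ (2 * f + 1) : ℕ) : ℚ) m j) =
      ((if m + f < j + (h + 1) then 1 else 0) - (if h + f < j then 1 else 0)) +
        ((if 4 * j = 2 * m + 2 * f + 1 + p ∨ 2 * m + 2 * f + 1 = 4 * j + p then 1 else 0) -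
          (if 2 * m + 2 * f + 1 = 2 * j + p then 1 else 0)) := by
  have hp3 : 3 ≤ p := by
    have := hp.out.two_le
    omega
  have hq0 : (0 : ℚ) < q := by exact_mod_cast (by omega : 0 < q)
  have hQ1 : (1 : ℚ) < (q : ℚ) ^ 2 := one_lt_pow₀ (by exact_mod_cast (by omega : 1 < q)) (by norm_num)
  have hq' := not_dvd_of_dvd_succ hpq
  set a : ℤ := (padicValNat p (q + 1) : ℤ) with ha
  have t1 : ∀ i ∈ range j, ((q : ℚ) ^ (2 * f + 1)) * (((q : ℚ) ^ 2) ^ (m - i) - 1) *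
      (1 + ((q : ℚ) ^ (2 * f + 1)) * ((q : ℚ) ^ 2) ^ (m - (i + 1))) /
      ((((q : ℚ) ^ 2) ^ (i + 1) - 1) * (((q : ℚ) ^ (2 * f + 1)) + ((q : ℚ) ^ 2) ^ (i + 1))) ≠ 0 := by
    intro i hi
    rw [mem_range] at hi
    have a1 : 0 < ((q : ℚ) ^ 2) ^ (m - i) - 1 := sub_pos.2 (one_lt_pow₀ hQ1 (by omega))
    have a2 : 0 < ((q : ℚ) ^ 2) ^ (i + 1) - 1 := sub_pos.2 (one_lt_pow₀ hQ1 (by omega))
    positivity
  push_cast
  have t2 : gg ((q : ℚ) ^ 2) ((q : ℚ) ^ (2 * f + 1)) m j ≠ 0 := by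
    unfold gg
    exact prod_ne_zero_iff.2 t1
  have u1 : padicValRat p (gg ((q : ℚ) ^ 2) ((q : ℚ) ^ (2 * f + 1)) m j) =
      ∑ i ∈ range j, ((if i = m + f - (h + 1) then (1 : ℤ) else 0) - (if i = h + f then (1 : ℤ) else 0)) := by
    unfold gg
    rw [val_prod _ _ t1]
    refine sum_congr rfl fun i hi => ?_
    rw [mem_range] at hi
    have a1 : 0 < ((q : ℚ) ^ 2) ^ (m - i) - 1 := sub_pos.2 (one_lt_pow₀ hQ1 (by omega))
    have a2 : 0 < ((q : ℚ) ^ 2) ^ (i + 1) - 1 := sub_pos.2 (one_lt_pow₀ hQ1 (by omega))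
    have b0 : (q : ℚ) ^ (2 * f + 1) ≠ 0 := by positivity
    have b1 : (1 + ((q : ℚ) ^ (2 * f + 1)) * ((q : ℚ) ^ 2) ^ (m - (i + 1))) ≠ 0 := by positivity
    have b2 : (((q : ℚ) ^ (2 * f + 1)) + ((q : ℚ) ^ 2) ^ (i + 1)) ≠ 0 := by positivity
    have c0 : padicValRat p ((q : ℚ) ^ (2 * f + 1)) = 0 := by
      have : ((q : ℚ) ^ (2 * f + 1)) = ((q ^ (2 * f + 1) : ℕ) : ℚ) := by push_cast; ring
      rw [this, padicValRat.of_nat, padicValNat.eq_zero_of_not_dvd (fun h => hq' (hp.out.dvd_of_dvd_pow h))]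
      rfl
    have c1 : padicValRat p (1 + ((q : ℚ) ^ (2 * f + 1)) * ((q : ℚ) ^ 2) ^ (m - (i + 1))) =
        a + (if i = m + f - (h + 1) then 1 else 0) := by
      have e := val_add2 hpq hq h2 0 (2 * f + 1 + 2 * (m - (i + 1))) ⟨f + (m - (i + 1)), by ring⟩ (by omega) (by omega)
      rw [pow_zero, pow_add, pow_mul (q : ℚ) 2 (m - (i + 1))] at e
      rw [e, ← ha]
      have e2 : (0 = 2 * f + 1 + 2 * (m - (i + 1)) + p ∨ 2 * f + 1 + 2 * (m - (i + 1)) = 0 + p) ↔
          i = m + f - (h + 1) := by omega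
      simp only [e2]
    have c2 : padicValRat p (((q : ℚ) ^ (2 * f + 1)) + ((q : ℚ) ^ 2) ^ (i + 1)) =
        a + (if i = h + f then 1 else 0) := by
      have e := val_add2 hpq hq h2 (2 * f + 1) (2 * (i + 1)) ⟨f + (i + 1), by ring⟩ (by omega) (by omega)
      rw [pow_mul (q : ℚ) 2 (i + 1)] at e
      rw [e, ← ha]
      have e2 : (2 * f + 1 = 2 * (i + 1) + p ∨ 2 * (i + 1) = 2 * f + 1 + p) ↔ i = h + f := by omega
      simp only [e2]
    rw [padicValRat.div (mul_ne_zero (mul_ne_zero b0 a1.ne') b1) (mul_ne_zero a2.ne' b2),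
      padicValRat.mul (mul_ne_zero b0 a1.ne') b1, padicValRat.mul b0 a1.ne', padicValRat.mul a2.ne' b2, c0, c1, c2,
      val_sub2 h2 hq hpq (by omega) (by omega), val_sub2 h2 hq hpq (by omega) (by omega)]
    ring
  have u3 : ∑ i ∈ range j, ((if i = m + f - (h + 1) then (1 : ℤ) else 0) - (if i = h + f then (1 : ℤ) else 0)) =
      (if m + f < j + (h + 1) then 1 else 0) - (if h + f < j then 1 else 0) := by
    rw [sum_sub_distrib, sum_ite_eq', sum_ite_eq']
    have e1 : m + f - (h + 1) ∈ range j ↔ m + f < j + (h + 1) := by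
      rw [mem_range]
      omega
    have e2 : h + f ∈ range j ↔ h + f < j := mem_range
    simp only [e1, e2]
  unfold ff
  have b1 : ((q : ℚ) ^ 2) ^ (2 * j) + ((q : ℚ) ^ (2 * f + 1)) * ((q : ℚ) ^ 2) ^ m ≠ 0 := by positivity
  have b2 : ((q : ℚ) ^ 2) ^ j + ((q : ℚ) ^ (2 * f + 1)) * ((q : ℚ) ^ 2) ^ m ≠ 0 := by positivity
  have c1 : padicValRat p (((q : ℚ) ^ 2) ^ (2 * j) + ((q : ℚ) ^ (2 * f + 1)) * ((q : ℚ) ^ 2) ^ m) =
      a + (if 4 * j = 2 * m + 2 * f + 1 + p ∨ 2 * m + 2 * f + 1 = 4 * j + p then 1 else 0) := by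
    have e := val_add2 hpq hq h2 (2 * (2 * j)) (2 * f + 1 + 2 * m) ⟨2 * j + f + m, by ring⟩ (by omega) (by omega)
    rw [pow_add, pow_mul (q : ℚ) 2 (2 * j), pow_mul (q : ℚ) 2 m] at e
    rw [e, ← ha]
    have e2 : (2 * (2 * j) = 2 * f + 1 + 2 * m + p ∨ 2 * f + 1 + 2 * m = 2 * (2 * j) + p) ↔
        (4 * j = 2 * m + 2 * f + 1 + p ∨ 2 * m + 2 * f + 1 = 4 * j + p) := by omega
    simp only [e2]
  have c2 : padicValRat p (((q : ℚ) ^ 2) ^ j + ((q : ℚ) ^ (2 * f + 1)) * ((q : ℚ) ^ 2) ^ m) =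
      a + (if 2 * m + 2 * f + 1 = 2 * j + p then 1 else 0) := by
    have e := val_add2 hpq hq h2 (2 * j) (2 * f + 1 + 2 * m) ⟨j + f + m, by ring⟩ (by omega) (by omega)
    rw [pow_add, pow_mul (q : ℚ) 2 j, pow_mul (q : ℚ) 2 m] at e
    rw [e, ← ha]
    have e2 : (2 * j = 2 * f + 1 + 2 * m + p ∨ 2 * f + 1 + 2 * m = 2 * j + p) ↔
        2 * m + 2 * f + 1 = 2 * j + p := by omega
    simp only [e2]
  rw [padicValRat.div (mul_ne_zero t2 b1) b2, padicValRat.mul t2 b1, c1, c2, u1, u3]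
  ring

end

/-- **The dual polar characters of `PSU_n(q)`**, `p ∣ q + 1`, `p < n < 2 p`. -/
theorem exists_j_psu {p q n m f : ℕ} (hp : p.Prime) (h2 : p ≠ 2) (hq : 2 ≤ q) (hpq : p ∣ q + 1) (hnm : n = 2 * m + f)
    (hf : f ≤ 1) (h1 : p < n) (h3 : n < 2 * p) :
    ∃ j ≤ m, padicValRat p (Cfsg.Agent.H722.DPol.ff ((q ^ 2 : ℕ) : ℚ) ((q ^ (2 * f + 1) : ℕ) : ℚ) m j) = 1 := by
  haveI : Fact p.Prime := ⟨hp⟩
  obtain ⟨h, hh⟩ : ∃ h, p = 2 * h + 1 := hp.odd_of_ne_two h2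
  have key : ∀ j ≤ m, (((if m + f < j + (h + 1) then (1 : ℤ) else 0) - (if h + f < j then 1 else 0)) +
        ((if 4 * j = 2 * m + 2 * f + 1 + p ∨ 2 * m + 2 * f + 1 = 4 * j + p then 1 else 0) -
          (if 2 * m + 2 * f + 1 = 2 * j + p then 1 else 0)) = 1) →
      padicValRat p (ff ((q ^ 2 : ℕ) : ℚ) ((q ^ (2 * f + 1) : ℕ) : ℚ) m j) = 1 := by
    intro j hj hk
    rw [val_ff_psu h2 hq hpq hh hf (by omega) (by omega) hj]
    exact hk
  rcases Nat.lt_or_ge 0 f with hf0 | hf0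
  · have : f = 1 := by omega
    subst this
    rcases Nat.lt_or_ge m (2 * h) with hm | hm
    · refine ⟨h + 1, by omega, key _ (by omega) ?_⟩
      rw [if_pos (by omega), if_neg (by omega), if_neg (by omega), if_neg (by omega)]
      norm_num
    · have hm' : m = 2 * h := by omega
      subst hm'
      rcases Nat.even_or_odd' h with ⟨l, hl | hl⟩
      · subst hl
        refine ⟨3 * l + 1, by have := hp.two_le; omega, key _ (by have := hp.two_le; omega) ?_⟩
        have := hp.two_le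
        rw [if_pos (by omega), if_pos (by omega), if_pos (by omega), if_neg (by omega)]
        norm_num
      · subst hl
        refine ⟨l + 1, by omega, key _ (by omega) ?_⟩
        rw [if_neg (by omega), if_neg (by omega), if_pos (by omega), if_neg (by omega)]
        norm_num
  · have : f = 0 := by omega
    subst this
    obtain ⟨l, hl⟩ | ⟨l, hl⟩ := Nat.even_or_odd (m - h)
    · refine ⟨l, by omega, key _ (by omega) ?_⟩
      rw [if_neg (by omega), if_neg (by omega), if_pos (by omega), if_neg (by omega)]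
      norm_num
    · refine ⟨h + l + 1, by omega, key _ (by omega) ?_⟩
      rw [if_pos (by omega), if_pos (by omega), if_pos (by omega), if_neg (by omega)]
      norm_num

end Cfsg.Agent.H766.HT
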